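import Mathlib.GroupTheory.Nilpotent
import Mathlib.Data.Nat.ChineseRemainder
import Mathlib.GroupTheory.OrderOfElement

/-!
# An exponent giving the part of order prime to `p`

`regExp p G` annihilates the elements of `p`-power order and fixes those of order prime to `p`;
on a nilpotent group raising to this power is multiplicative.
-/

set_option autoImplicit false

namespace CfsgLib.Blocks.Modular

universe u

theorem exists_regExp (p : ℕ) [hp : Fact p.Prime] (G : Type u) [Group G] [Finite G] :
    ∃ N : ℕ, (∀ g : G, ¬ p ∣ orderOf (g ^ N)) ∧ (∀ g : G, ¬ p ∣ orderOf g → g ^ N = g) ∧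
      ∀ (g : G) (e : ℕ), orderOf g = p ^ e → g ^ N = 1 := by
  obtain ⟨e, m, hpm, hcard⟩ :=
    Nat.exists_eq_pow_mul_and_not_dvd (Nat.card_pos (α := G)).ne' p hp.out.ne_one
  have hco : (p ^ e).Coprime m := ((hp.out.coprime_iff_not_dvd).2 hpm).pow_left e
  obtain ⟨N, hN0, hN1⟩ := Nat.chineseRemainder hco 0 1
  have hN : p ^ e ∣ N := Nat.modEq_zero_iff_dvd.1 hN0
  refine ⟨N, fun g h => hpm (h.trans (orderOf_dvd_of_pow_eq_one ?_)), fun g hg => ?_,
    fun g j hj => ?_⟩
  · rw [← pow_mul, ← orderOf_dvd_iff_pow_eq_one]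
    exact (orderOf_dvd_natCard g).trans (hcard ▸ Nat.mul_dvd_mul_right hN m)
  · have hm : orderOf g ∣ m := by
      refine Nat.Coprime.dvd_of_dvd_mul_left
        (((hp.out.coprime_iff_not_dvd).2 hg).symm.pow_right e) ?_
      rw [← hcard]
      exact orderOf_dvd_natCard g
    exact (pow_eq_pow_iff_modEq.2 (hN1.of_dvd hm)).trans (pow_one g)
  · rw [← orderOf_dvd_iff_pow_eq_one]
    refine dvd_trans ?_ hN
    have hd : orderOf g ∣ p ^ e * m := hcard ▸ orderOf_dvd_natCard g
    refine Nat.Coprime.dvd_of_dvd_mul_right ?_ hd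
    rw [hj]
    exact ((hp.out.coprime_iff_not_dvd).2 hpm).pow_left j

/-- The exponent. -/
noncomputable def regExp (p : ℕ) [Fact p.Prime] (G : Type u) [Group G] [Finite G] : ℕ :=
  Classical.choose (exists_regExp p G)

variable {p : ℕ} [Fact p.Prime] {G : Type u} [Group G] [Finite G]

theorem regular_pow_regExp (g : G) : ¬ p ∣ orderOf (g ^ regExp p G) :=
  (Classical.choose_spec (exists_regExp p G)).1 g

theorem pow_regExp_of_regular {g : G} (hg : ¬ p ∣ orderOf g) : g ^ regExp p G = g :=
  (Classical.choose_spec (exists_regExp p G)).2.1 g hg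

theorem pow_regExp_of_pElement {g : G} {e : ℕ} (hg : orderOf g = p ^ e) : g ^ regExp p G = 1 :=
  (Classical.choose_spec (exists_regExp p G)).2.2 g e hg

/-- On a nilpotent subgroup the part of order prime to `p` is a homomorphism. -/
theorem mul_pow_regExp {E : Subgroup G} [Group.IsNilpotent E] (a b : E) :
    (a * b) ^ regExp p G = a ^ regExp p G * b ^ regExp p G := by
  classical
  obtain ⟨φ⟩ := ((Group.isNilpotent_of_finite_tfae (G := E)).out 0 4).mp
    (inferInstance : Group.IsNilpotent E)
  apply φ.symm.injective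
  rw [map_mul, map_pow, map_mul, map_pow, map_pow]
  generalize φ.symm a = x
  generalize φ.symm b = y
  funext q P
  simp only [Pi.pow_apply, Pi.mul_apply]
  haveI : Fact (q : ℕ).Prime := ⟨Nat.prime_of_mem_primeFactors q.2⟩
  have key : ∀ z : (P : Subgroup E),
      ((q : ℕ) = p → z ^ regExp p G = 1) ∧ ((q : ℕ) ≠ p → z ^ regExp p G = z) := by
    intro z
    obtain ⟨j, hj⟩ := IsPGroup.iff_orderOf.1 P.isPGroup' z
    have hord : orderOf (((z : E) : G)) = (q : ℕ) ^ j := by
      rw [Subgroup.orderOf_coe, Subgroup.orderOf_coe, hj]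
    refine ⟨fun h => Subtype.ext (Subtype.ext ?_), fun h => Subtype.ext (Subtype.ext ?_)⟩
    · simpa using pow_regExp_of_pElement (p := p) (e := j) (by rw [hord, h])
    · have hreg : ¬ p ∣ orderOf ((z : E) : G) := by
        rw [hord]
        exact fun hd => h (((Nat.prime_dvd_prime_iff_eq Fact.out Fact.out).1
          ((Fact.out : p.Prime).dvd_of_dvd_pow hd)).symm)
      simpa using pow_regExp_of_regular hreg
  rcases eq_or_ne (q : ℕ) p with h | h
  · rw [(key _).1 h, (key _).1 h, (key _).1 h, mul_one]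
  · rw [(key _).2 h, (key _).2 h, (key _).2 h]

end CfsgLib.Blocks.Modular
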