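import Cfsg.Agent.Blocks.Modular.Regular
import Cfsg.Agent.Blocks.Modular.Exponent
import Cfsg.Agent.Blocks.Cyclic.SimpleCount
import Cfsg.Agent.Blocks.HeightZero.RegularPair

/-!
# Brauer characters

`S.phi c` is the Brauer character of the `c`-th factor, extended to all of the group through the
parts of order prime to `p`.  The restrictions of the characters to the regular elements are the
combinations of the Brauer characters by the decomposition numbers, and both families are
independent, the decomposition numbers even modulo `p`.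
-/

set_option autoImplicit false
open scoped MonoidAlgebra
open MonoidAlgebra (single)

namespace CfsgLib.Blocks.Modular

open Cfsg CfsgLib.Chars.Exceptional
open scoped ComplexConjugate

universe u

variable {M : Ideal AlgInt} [hM : M.IsMaximal] {p : ℕ} [hp : Fact p.Prime] [CharP (kres M) p]

/-- An element of a commutative local group algebra is determined by the characters. -/
theorem ext_of_evalFn {T : Type u} [Group T] [Fintype T] (hcm : ∀ x y : T, x * y = y * x)
    {a b : (localRing M)[T]}
    (h : ∀ ψ : IrrCharacter T, evalFn (ψ : T → ℂ) a = evalFn (ψ : T → ℂ) b) : a = b := by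
  classical
  have hcoeff : ∀ (a : (localRing M)[T]) (t : T), (Nat.card T : ℂ) * (a.coeff t : ℂ) =
      ∑ ψ : IrrCharacter T, evalFn (ψ : T → ℂ) a * conj ((ψ : T → ℂ) t) := by
    intro a t
    simp only [evalFn, Finset.sum_mul]
    rw [Finset.sum_comm]
    simp only [mul_assoc, ← Finset.mul_sum]
    simp only [Chars.sum_irr_mul_conj]
    rw [Finset.sum_eq_single t (fun g _ hg => by
      rw [if_neg fun hc => hg ?_, mul_zero]
      obtain ⟨z, hz⟩ := isConj_iff.1 hc
      rwa [hcm, ← mul_assoc, inv_mul_cancel, one_mul] at hz) (by simp)]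
    rw [if_pos (IsConj.refl t), mul_comm]
    congr 2
    rw [show Subgroup.centralizer ({t} : Set T) = ⊤ from eq_top_iff.2 fun x _ =>
      Subgroup.mem_centralizer_iff.2 fun y _ => hcm y x, Subgroup.card_top]
  refine MonoidAlgebra.ext (Finsupp.ext fun t => Subtype.ext ?_)
  refine mul_left_cancel₀ (Nat.cast_ne_zero.2 Nat.card_pos.ne' : (Nat.card T : ℂ) ≠ 0) ?_
  rw [hcoeff, hcoeff]
  simp only [h]

variable {G : Type u} [Group G] [Fintype G]

/-- The trace of a group element on the `c`-th factor. -/
noncomputable def IdemSys.tau (S : IdemSys M G) (c : Fin S.n) (g : G) : kres M :=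
  (S.f (single g 1) c).trace

omit hp [CharP (kres M) p] in
theorem IdemSys.tau_conj (S : IdemSys M G) (c : Fin S.n) (g h : G) :
    S.tau c (h * g * h⁻¹) = S.tau c g := by
  have e : single (h * g * h⁻¹) (1 : kres M) = single h 1 * (single g 1 * single h⁻¹ 1) := by
    simp [MonoidAlgebra.single_mul_single, mul_assoc]
  unfold IdemSys.tau
  rw [e, map_mul, Pi.mul_apply, Matrix.trace_mul_comm, ← Pi.mul_apply, ← map_mul]
  simp [MonoidAlgebra.single_mul_single, mul_assoc]

/-- The traces are independent on the regular elements. -/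
theorem IdemSys.tau_indep (S : IdemSys M G) (hMp : IsPModular p M) {a : Fin S.n → kres M}
    (ha : ∀ g : G, IsPRegular p g → ∑ c, a c * S.tau c g = 0) : a = 0 := by
  classical
  haveI := S.ne
  have hall : ∀ g : G, ∑ c, a c * S.tau c g = 0 := by
    intro g
    obtain ⟨u, y, huy, hcomm, ⟨e, hue⟩, hyreg⟩ := exists_isPPart (G := G) hp.out g
    rw [← ha y hyreg]
    refine Finset.sum_congr rfl fun c _ => ?_
    let Φ : (kres M)[G] →ₐ[kres M] Module.End (kres M) (Fin (S.d c) → kres M) :=
      (Matrix.toLinAlgEquiv' (R := kres M) (n := Fin (S.d c))).toAlgHom.comp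
        ((Pi.evalAlgHom (kres M) (fun c => Matrix (Fin (S.d c)) (Fin (S.d c)) (kres M)) c).comp S.f)
    have htr : ∀ x, LinearMap.trace (kres M) _ (Φ (single x 1)) = S.tau c x :=
      fun x => Matrix.trace_toLin'_eq _
    rw [← htr g, ← htr y, ← huy, Cyclic.trace_pPart hMp Φ hcomm hue]
  have hlin : ∀ w : (kres M)[G], ∑ c, a c * (S.f w c).trace = 0 := by
    intro w
    induction w using MonoidAlgebra.induction_linear with
    | zero => simp
    | add x y hx hy =>
      simp [map_add, Matrix.trace_add, mul_add, Finset.sum_add_distrib, hx, hy]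
    | single g t =>
      rw [show single g t = t • single g (1 : kres M) by simp]
      simp only [map_smul, Pi.smul_apply, Matrix.trace_smul, smul_eq_mul, mul_left_comm,
        ← Finset.mul_sum]
      rw [show ∑ c, a c * (S.f (single g 1) c).trace = 0 from hall g, mul_zero]
  funext c
  obtain ⟨w, hw⟩ := S.surj (unitAt c)
  have h := hlin w
  rw [hw, Finset.sum_eq_single c] at h
  · simpa [trace_unitAt] using h
  · intro e _ he; simp [trace_unitAt, he]
  · simp

/-- The values of the Brauer characters at a regular element. -/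
theorem IdemSys.exists_value (S : IdemSys M G) (hMp : IsPModular p M) {x : G}
    (hx : IsPRegular p x) :
    ∃ v : Fin S.n → ℂ, ∃ hv : ∀ c, MemLocalRing M (v c),
      (∀ c, res M ⟨v c, hv c⟩ = S.tau c x) ∧
      ∀ χ : G → ℂ, IsCharacter G χ → χ x = ∑ c, S.dec χ c * v c := by
  classical
  haveI := S.ne
  set T := Subgroup.zpowers x with hT
  set x' : T := ⟨x, Subgroup.mem_zpowers x⟩ with hx'
  have hTp : ¬ p ∣ Nat.card T := by rwa [hT, Nat.card_zpowers]
  choose E₀ hE₀ hval₀ using fun ψ : IrrCharacter T => exists_separating hMp hTp ψ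
  choose r hr ht hr0 using fun ψ : IrrCharacter T =>
    S.exists_trv hMp ((hE₀ ψ).map (liftO (M := M) T.subtype))
  have hloc : ∀ ψ : IrrCharacter T, MemLocalRing M ((ψ : T → ℂ) x') := fun ψ =>
    HeightZero.memLocalRing_apply (Chars.isCharacter_coe ψ) x'
  have hdecomp : single x' (1 : localRing M) =
      ∑ ψ : IrrCharacter T, (⟨_, hloc ψ⟩ : localRing M) • E₀ ψ := by
    refine ext_of_evalFn (fun a b => mul_comm' a b) fun θ => ?_
    rw [evalFn_single, OneMemClass.coe_one, one_mul, evalFn]
    simp only [MonoidAlgebra.coeff_sum, Finsupp.finsetSum_apply, MonoidAlgebra.coeff_smul,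
      Finsupp.smul_apply, smul_eq_mul, AddSubmonoidClass.coe_finsetSum, Subring.coe_mul,
      Finset.sum_mul]
    rw [Finset.sum_comm]
    simp only [mul_assoc, ← Finset.mul_sum]
    rw [Finset.sum_eq_single θ (fun ψ _ hne => by
        rw [← evalFn, hval₀, if_neg (Ne.symm hne), mul_zero]) (by simp), ← evalFn, hval₀,
      if_pos rfl, mul_one]
  refine ⟨fun c => ∑ ψ : IrrCharacter T, (r ψ c : ℂ) * (ψ : T → ℂ) x', fun c =>
    (localRing M).sum_mem fun ψ _ =>
      (localRing M).mul_mem (natCast_mem (localRing M) _) (hloc ψ), fun c => ?_, fun χ hχ => ?_⟩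
  · have hsingle : single x (1 : kres M) = ∑ ψ : IrrCharacter T,
        res M ⟨_, hloc ψ⟩ • redG M G (liftO (M := M) T.subtype (E₀ ψ)) := by
      have h := congrArg (fun w => redG M G (liftO (M := M) T.subtype w)) hdecomp
      simp only [liftO_single, redG_single, map_one, map_sum] at h
      rw [show single x (1 : kres M) = single (T.subtype x') 1 from rfl, h]
      refine Finset.sum_congr rfl fun ψ _ => ?_
      generalize E₀ ψ = w
      induction w using MonoidAlgebra.induction_linear with
      | zero => simp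
      | add a b ha hb => simp only [smul_add, map_add, ha, hb]
      | single g t => simp [liftO_single, redG_single]
    rw [IdemSys.tau, hsingle, map_sum, Finset.sum_apply, Matrix.trace_sum]
    simp only [map_smul, Pi.smul_apply, Matrix.trace_smul, ht, smul_eq_mul]
    refine Eq.trans (congrArg (res M) (show _ = ∑ ψ : IrrCharacter T,
      (r ψ c : localRing M) * ⟨_, hloc ψ⟩ from Subtype.ext (by simp))) ?_
    rw [map_sum]
    exact Finset.sum_congr rfl fun ψ _ => by rw [map_mul, map_natCast, mul_comm]
  · have hres : IsCharacter T (fun t : T => χ (T.subtype t)) := Chars.isCharacter_comp hχ T.subtype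
    have hcount : ∀ ψ : IrrCharacter T, classInner (fun t : T => χ (T.subtype t)) (ψ : T → ℂ) =
        ∑ c, (r ψ c : ℂ) * S.dec χ c := by
      intro ψ
      rw [← hr ψ χ (Chars.isClassFunction_of_isCharacter hχ), trv_single_one, evalFn_liftO]
      set θ := fun t : T => χ (T.subtype t) with hθ
      symm
      calc evalFn θ (E₀ ψ) = ∑ g, ((E₀ ψ).coeff g : ℂ) * ∑ φ : IrrCharacter T,
            classInner θ (φ : T → ℂ) * (φ : T → ℂ) g :=
            Finset.sum_congr rfl fun g _ => by
              rw [← Chars.eq_sum_classInner_mul (Chars.isClassFunction_of_isCharacter hres) g]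
        _ = ∑ φ : IrrCharacter T, classInner θ (φ : T → ℂ) * evalFn (φ : T → ℂ) (E₀ ψ) := by
            simp only [evalFn, Finset.mul_sum]
            rw [Finset.sum_comm]
            exact Finset.sum_congr rfl fun φ _ => Finset.sum_congr rfl fun g _ => by ring
        _ = classInner θ (ψ : T → ℂ) := by
            rw [Finset.sum_eq_single ψ (fun φ _ hne => by rw [hval₀, if_neg hne, mul_zero])
              (fun h => absurd (Finset.mem_univ _) h), hval₀, if_pos rfl, mul_one]
    refine (Chars.eq_sum_classInner_mul (Chars.isClassFunction_of_isCharacter hres) x').trans ?_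
    simp only [hcount, Finset.sum_mul, Finset.mul_sum]
    rw [Finset.sum_comm]
    exact Finset.sum_congr rfl fun c _ => Finset.sum_congr rfl fun ψ _ => by ring

/-- The decomposition numbers have a left inverse. -/
theorem IdemSys.exists_dec_inverse (S : IdemSys M G) (hMp : IsPModular p M) :
    ∃ A : Fin S.n → IrrCharacter G → ℂ, ∀ c c',
      ∑ χ : IrrCharacter G, A c χ * S.dec (χ : G → ℂ) c' = if c = c' then 1 else 0 := by
  classical
  choose m hm using fun (χ : IrrCharacter G) (c : Fin S.n) =>
    exists_nat_dec S (Chars.isCharacter_coe χ) c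
  have hred : ∀ (χ : IrrCharacter G) (g : G), IsPRegular p g →
      redC M ((χ : G → ℂ) g) = ∑ c, (m χ c : kres M) * S.tau c g := by
    intro χ g hg
    obtain ⟨v, hv, hvt, hvχ⟩ := S.exists_value hMp hg
    have he : (χ : G → ℂ) g = ((∑ c, (m χ c : localRing M) * ⟨v c, hv c⟩ : localRing M) : ℂ) := by
      rw [hvχ _ (Chars.isCharacter_coe χ)]
      simp [hm]
    rw [redC_of_mem (HeightZero.memLocalRing_apply (Chars.isCharacter_coe χ) g)]
    refine Eq.trans (congrArg (res M) (Subtype.ext he)) ?_
    rw [map_sum]
    simp [hvt]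
  choose a ha using fun c : Fin S.n => Cyclic.exists_combination hMp (F := S.tau c) (S.tau_conj c)
  have hid : ∀ c c', ∑ χ, a c χ * (m χ c' : kres M) = if c = c' then 1 else 0 := by
    intro c
    refine fun c' => sub_eq_zero.1 (congrFun (S.tau_indep hMp
      (a := fun c' => (∑ χ, a c χ * (m χ c' : kres M)) - if c = c' then 1 else 0) ?_) c')
    intro g hg
    simp only [sub_mul, Finset.sum_sub_distrib, ite_mul, one_mul, zero_mul, Finset.sum_ite_eq,
      Finset.mem_univ, if_true, sub_eq_zero, Finset.sum_mul]
    rw [Finset.sum_comm, ha c g hg]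
    refine Finset.sum_congr rfl fun χ _ => ?_
    rw [hred χ g hg, Finset.mul_sum]
    exact Finset.sum_congr rfl fun c' _ => mul_assoc _ _ _
  choose A₀ hA₀ using fun c χ => res_surjective (a c χ)
  let P : Matrix (Fin S.n) (Fin S.n) (localRing M) :=
    Matrix.of fun c c' => ∑ χ, A₀ c χ * (m χ c' : localRing M)
  have hP : P.map (res M) = 1 := by
    ext c c'
    simp only [P, Matrix.map_apply, Matrix.of_apply, map_sum, map_mul, map_natCast, hA₀]
    rw [hid, Matrix.one_apply]
  have hdet : (P.map (localRing M).subtype).det ≠ 0 := by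
    rw [← RingHom.mapMatrix_apply, ← RingHom.map_det]
    intro h
    have h0 : P.det = 0 := Subtype.ext h
    have h1 : res M P.det = 1 := by
      rw [RingHom.map_det, RingHom.mapMatrix_apply, hP, Matrix.det_one]
    rw [h0, map_zero] at h1
    exact zero_ne_one h1
  set Q := P.map (localRing M).subtype with hQ
  refine ⟨fun c χ => ∑ e, Q⁻¹ c e * (A₀ e χ : ℂ), fun c c' => ?_⟩
  simp only [Finset.sum_mul]
  rw [Finset.sum_comm]
  have hinv : (Q⁻¹ * Q) c c' = if c = c' then 1 else 0 := by
    rw [Matrix.nonsing_inv_mul Q (isUnit_iff_ne_zero.2 hdet), Matrix.one_apply]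
  rw [← hinv, Matrix.mul_apply]
  refine Finset.sum_congr rfl fun e _ => ?_
  simp [hQ, P, Finset.mul_sum, hm, mul_assoc]

/-- Two vectors with the same combinations by the decomposition numbers are equal. -/
theorem IdemSys.ext_dec (S : IdemSys M G) (hMp : IsPModular p M) {u v : Fin S.n → ℂ}
    (h : ∀ χ : IrrCharacter G, ∑ c, S.dec (χ : G → ℂ) c * u c = ∑ c, S.dec (χ : G → ℂ) c * v c) :
    u = v := by
  classical
  obtain ⟨A, hA⟩ := S.exists_dec_inverse hMp
  have key : ∀ (w : Fin S.n → ℂ) c,
      ∑ χ : IrrCharacter G, A c χ * ∑ c', S.dec (χ : G → ℂ) c' * w c' = w c := by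
    intro w c
    simp only [Finset.mul_sum, ← mul_assoc]
    rw [Finset.sum_comm]
    simp [← Finset.sum_mul, hA]
  funext c
  rw [← key u c, ← key v c]
  simp only [h]

open scoped Classical in
/-- The Brauer character of the `c`-th factor, through the parts of order prime to `p`. -/
noncomputable def IdemSys.phi (S : IdemSys M G) (p : ℕ) [Fact p.Prime] (c : Fin S.n) (g : G) : ℂ :=
  if h : ∃ v : Fin S.n → ℂ, ∀ χ : G → ℂ, IsCharacter G χ →
      χ (g ^ regExp p G) = ∑ e, S.dec χ e * v e then h.choose c else 0

theorem IdemSys.apply_pow_eq_sum (S : IdemSys M G) (hMp : IsPModular p M) {χ : G → ℂ}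
    (hχ : IsCharacter G χ) (g : G) :
    χ (g ^ regExp p G) = ∑ c, S.dec χ c * S.phi p c g := by
  obtain ⟨v, -, -, hv⟩ := S.exists_value hMp (regular_pow_regExp (p := p) g)
  have hex : ∃ v : Fin S.n → ℂ, ∀ χ : G → ℂ, IsCharacter G χ →
      χ (g ^ regExp p G) = ∑ e, S.dec χ e * v e := ⟨v, hv⟩
  simp only [IdemSys.phi, dif_pos hex]
  exact hex.choose_spec χ hχ

theorem IdemSys.apply_eq_sum (S : IdemSys M G) (hMp : IsPModular p M) {χ : G → ℂ}
    (hχ : IsCharacter G χ) {g : G} (hg : IsPRegular p g) :
    χ g = ∑ c, S.dec χ c * S.phi p c g := by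
  rw [← S.apply_pow_eq_sum hMp hχ g, pow_regExp_of_regular hg]

/-- The Brauer characters are determined by the restrictions of the characters. -/
theorem IdemSys.phi_unique (S : IdemSys M G) (hMp : IsPModular p M) {g : G} {v : Fin S.n → ℂ}
    (h : ∀ χ : IrrCharacter G, (χ : G → ℂ) (g ^ regExp p G) = ∑ c, S.dec (χ : G → ℂ) c * v c) :
    (fun c => S.phi p c g) = v :=
  S.ext_dec hMp fun χ => by rw [← S.apply_pow_eq_sum hMp (Chars.isCharacter_coe χ), h]

theorem IdemSys.isClassFunction_phi (S : IdemSys M G) (hMp : IsPModular p M) (c : Fin S.n) :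
    IsClassFunction G (S.phi p c) := by
  intro a b
  refine congrFun (S.phi_unique hMp (g := b * a * b⁻¹) (v := fun e => S.phi p e a) fun χ => ?_) c
  rw [conj_pow, Chars.isClassFunction_coe χ, S.apply_pow_eq_sum hMp (Chars.isCharacter_coe χ)]

theorem IdemSys.phi_pow_regExp (S : IdemSys M G) (hMp : IsPModular p M) (c : Fin S.n) (g : G) :
    S.phi p c (g ^ regExp p G) = S.phi p c g := by
  refine congrFun (S.phi_unique hMp (v := fun e => S.phi p e g) fun χ => ?_) c
  rw [pow_regExp_of_regular (regular_pow_regExp g),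
    S.apply_pow_eq_sum hMp (Chars.isCharacter_coe χ)]

theorem IdemSys.exists_phi_mem (S : IdemSys M G) (hMp : IsPModular p M) (c : Fin S.n) {g : G}
    (hg : IsPRegular p g) :
    ∃ h : MemLocalRing M (S.phi p c g), res M ⟨_, h⟩ = S.tau c g := by
  obtain ⟨v, hv, hvt, hvχ⟩ := S.exists_value hMp hg
  have he : (fun c => S.phi p c g) = v := S.phi_unique hMp fun χ => by
    rw [pow_regExp_of_regular hg, hvχ _ (Chars.isCharacter_coe χ)]
  refine ⟨congrFun he c ▸ hv c, ?_⟩
  rw [← hvt c]
  exact congrArg _ (Subtype.ext (congrFun he c))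

/-- **The Brauer characters are independent on the regular elements.** -/
theorem IdemSys.phi_indep (S : IdemSys M G) (hMp : IsPModular p M) {a : Fin S.n → ℂ}
    (ha : ∀ g : G, IsPRegular p g → ∑ c, a c * S.phi p c g = 0) : a = 0 := by
  classical
  let L : (Fin S.n → kres M) →ₗ[kres M] ({g : G // IsPRegular p g} → kres M) :=
    { toFun := fun b g => ∑ c, b c * S.tau c g
      map_add' := fun b b' => funext fun g => by simp [add_mul, Finset.sum_add_distrib]
      map_smul' := fun t b => funext fun g => by simp [Finset.mul_sum, mul_assoc] }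
  have hker : LinearMap.ker L = ⊥ := LinearMap.ker_eq_bot'.2 fun b hb =>
    S.tau_indep hMp fun g hg => congrFun hb ⟨g, hg⟩
  obtain ⟨R, hR⟩ := L.exists_leftInverse_of_injective hker
  choose R₀ hR₀ using fun (g : {g : G // IsPRegular p g}) c =>
    res_surjective (R (Pi.single g 1) c)
  choose hmem hres using fun (g : {g : G // IsPRegular p g}) c => S.exists_phi_mem hMp c g.2
  let P : Matrix (Fin S.n) (Fin S.n) (localRing M) :=
    Matrix.of fun c c' => ∑ g, (⟨_, hmem g c⟩ : localRing M) * R₀ g c'
  have hP : P.map (res M) = 1 := by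
    ext c c'
    simp only [P, Matrix.map_apply, Matrix.of_apply, map_sum, map_mul, hR₀, hres]
    have h := congrFun (LinearMap.congr_fun hR (Pi.single c 1)) c'
    rw [LinearMap.comp_apply, LinearMap.id_apply] at h
    rw [Matrix.one_apply, show (if c = c' then (1 : kres M) else 0) =
      (Pi.single c 1 : Fin S.n → kres M) c' by simp [Pi.single_apply, eq_comm], ← h,
      show L (Pi.single c 1) = ∑ g : {g : G // IsPRegular p g}, S.tau c g • Pi.single g 1 from
        funext fun g => by simp [L, Pi.single_apply]]
    simp [map_sum, map_smul]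
  have hdet : (P.map (localRing M).subtype).det ≠ 0 := by
    rw [← RingHom.mapMatrix_apply, ← RingHom.map_det]
    intro h
    have h0 : P.det = 0 := Subtype.ext h
    have h1 : res M P.det = 1 := by
      rw [RingHom.map_det, RingHom.mapMatrix_apply, hP, Matrix.det_one]
    rw [h0, map_zero] at h1
    exact zero_ne_one h1
  set Q := P.map (localRing M).subtype with hQ
  have h0 : Matrix.vecMul a Q = 0 := by
    funext c'
    simp only [Matrix.vecMul, dotProduct, hQ, P, Matrix.map_apply, Matrix.of_apply, map_sum,
      map_mul, Finset.mul_sum, Pi.zero_apply]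
    rw [Finset.sum_comm]
    refine Finset.sum_eq_zero fun g _ => ?_
    simp only [← mul_assoc, ← Finset.sum_mul]
    rw [show ∑ c, a c * (localRing M).subtype ⟨_, hmem g c⟩ = 0 from ha _ g.2, zero_mul]
  exact Matrix.eq_zero_of_vecMul_eq_zero hdet h0

/-- The degree of a Brauer character is a positive integer. -/
theorem IdemSys.exists_phi_one (S : IdemSys M G) (hMp : IsPModular p M) (c : Fin S.n) :
    ∃ f : ℕ, 0 < f ∧ S.phi p c 1 = (f : ℂ) := by
  haveI := S.ne
  obtain ⟨r, hr, -, h0⟩ := S.exists_trv hMp (E := 1) IsIdempotentElem.one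
  have he : (fun e => S.phi p e 1) = fun e => (r e : ℂ) := S.phi_unique hMp fun χ => by
    have h1 := hr _ (Chars.isClassFunction_coe χ)
    rw [trv_single_one, MonoidAlgebra.one_def, evalFn_single, OneMemClass.coe_one, one_mul] at h1
    rw [one_pow, h1]
    exact Finset.sum_congr rfl fun e _ => mul_comm _ _
  refine ⟨r c, Nat.pos_of_ne_zero fun hz => ?_, congrFun he c⟩
  have := h0 c hz
  rw [map_one, map_one, Pi.one_apply] at this
  exact one_ne_zero this

/-- On a subgroup of order prime to `p` a Brauer character is a character. -/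
theorem IdemSys.isCharacter_phi_restrict (S : IdemSys M G) (hMp : IsPModular p M) (c : Fin S.n)
    {T : Subgroup G} [Fintype T] (hT : ¬ p ∣ Nat.card T) :
    IsCharacter T (fun t : T => S.phi p c t) := by
  classical
  choose E hE hval using fun ψ : IrrCharacter T => exists_idem_count hMp hT T.subtype ψ
  choose r hr hr1 hr2 using fun ψ : IrrCharacter T => S.exists_trv hMp (hE ψ)
  have hkey : (fun t : T => S.phi p c t) =
      ∑ ψ : IrrCharacter T, r ψ c • (ψ : T → ℂ) := by
    funext t
    refine (congrFun (S.phi_unique hMp (g := (t : G))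
      (v := fun e => ∑ ψ : IrrCharacter T, (r ψ e : ℂ) * (ψ : T → ℂ) t) fun χ => ?_) c).trans ?_
    · rw [pow_regExp_of_regular (isPRegular_of_mem hT t.2)]
      have hres : IsCharacter T (fun s : T => (χ : G → ℂ) (T.subtype s)) :=
        Chars.isCharacter_comp (Chars.isCharacter_coe χ) T.subtype
      refine (Chars.eq_sum_classInner_mul (Chars.isClassFunction_of_isCharacter hres) t).trans ?_
      simp only [← hval _ _ (Chars.isClassFunction_coe χ), hr _ _ (Chars.isClassFunction_coe χ),
        Finset.sum_mul, Finset.mul_sum]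
      rw [Finset.sum_comm]
      exact Finset.sum_congr rfl fun e _ => Finset.sum_congr rfl fun ψ _ => by ring
    · simp [Finset.sum_apply, nsmul_eq_mul]
  rw [hkey]
  exact Chars.isCharacter_sum _ _ fun ψ _ => Chars.isCharacter_nsmul _ (Chars.isCharacter_coe ψ)

/-- **A Brauer character extends to a generalized character.** -/
theorem IdemSys.gen_phi (S : IdemSys M G) (hMp : IsPModular p M) (c : Fin S.n) :
    IsGeneralizedCharacter G (S.phi p c) := by
  refine Chars.Brauer.isGeneralizedCharacter_of_elementary (S.isClassFunction_phi hMp c)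
    fun E q hq hE => ?_
  haveI := Chars.Brauer.isNilpotent_of_isElementary hq hE
  let π : E →* G :=
    { toFun := fun e => ((e ^ regExp p G : E) : G)
      map_one' := by simp
      map_mul' := fun a b => by rw [mul_pow_regExp]; rfl }
  have hT : ¬ p ∣ Nat.card π.range := by
    intro hd
    obtain ⟨y, hy⟩ := exists_prime_orderOf_dvd_card' p hd
    obtain ⟨e, he⟩ := MonoidHom.mem_range.1 y.2
    refine regular_pow_regExp (p := p) ((e : E) : G) ?_
    rw [← Subgroup.coe_pow, show ((e ^ regExp p G : E) : G) = π e from rfl, he,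
      Subgroup.orderOf_coe, hy]
  haveI := Fintype.ofFinite π.range
  have h := Chars.isCharacter_comp (S.isCharacter_phi_restrict hMp c hT) π.rangeRestrict
  have e : (fun x : E => S.phi p c x) = fun x : E => S.phi p c (π.rangeRestrict x : G) := by
    funext x
    exact (S.phi_pow_regExp hMp c x).symm
  rw [e]
  exact gen_of_char h

end CfsgLib.Blocks.Modular
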