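import Cfsg.Agent.Blocks.Modular.Basis
import Cfsg.Agent.Eq.Def_BlockRank

/-!
# Decomposition numbers and blocks

The columns of a block `B`: the factors at which some member of `B` has a nonzero decomposition
number.  Characters outside `B` vanish there, the regular rank of `B` is at most their number, and
the degree of such a Brauer character is an integral combination of the degrees in `B`.
-/

set_option autoImplicit false
open scoped MonoidAlgebra
open MonoidAlgebra (single)

namespace CfsgLib.Blocks.Modular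

open Cfsg
open scoped ComplexConjugate

universe u

variable {M : Ideal AlgInt} [hM : M.IsMaximal] {p : ℕ} [hp : Fact p.Prime] [CharP (kres M) p]
  {G : Type u} [Group G] [Fintype G]

open scoped Classical in
/-- The columns of a set of characters. -/
noncomputable def IdemSys.cols (S : IdemSys M G) (B : Set (IrrCharacter G)) : Finset (Fin S.n) :=
  Finset.univ.filter fun c => ∃ χ ∈ B, S.dec (χ : G → ℂ) c ≠ 0

omit hp [CharP (kres M) p] in
theorem IdemSys.dec_eq_zero_of_notMem_cols (S : IdemSys M G) {B : Set (IrrCharacter G)}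
    {χ : IrrCharacter G} (hχ : χ ∈ B) {c : Fin S.n} (hc : c ∉ S.cols B) :
    S.dec (χ : G → ℂ) c = 0 := by
  classical
  by_contra h
  exact hc (Finset.mem_filter.2 ⟨Finset.mem_univ c, χ, hχ, h⟩)

/-- Multiplying by the lifted block idempotent takes the block part. -/
theorem evalFn_topLift_mul (hMp : IsPModular p M) {φ : G → ℂ} (hφ : IsClassFunction G φ)
    {B : Set (IrrCharacter G)} (hB : IsPBlock M B) (a : (localRing M)[G]) :
    evalFn φ (topLift hB * a) = evalFn (blockPart B φ) a := by
  induction a using MonoidAlgebra.induction_linear with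
  | zero => rw [mul_zero, evalFn_zero, evalFn_zero]
  | add a a' ha ha' => rw [mul_add, evalFn_add, evalFn_add, ha, ha']
  | single y t =>
    have hy : trv φ y (topLift hB) = blockPart B φ y := by
      rw [blockPart_eq_sum_blockCoeff B hφ, trv_eq_sum]
      exact Finset.sum_congr rfl fun g _ => by
        rw [CfsgLib.Chars.classFunction_mul_comm hφ y g]; rfl
    have hsmul : ∀ (ψ : G → ℂ) (b : (localRing M)[G]),
        evalFn ψ (t • b) = (t : ℂ) * evalFn ψ b := fun ψ b => by
      simp [evalFn, Finset.mul_sum, mul_assoc]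
    rw [show single y t = t • single y (1 : localRing M) by simp, mul_smul_comm, hsmul, hsmul,
      evalFn_mul_comm hφ, ← trv, hy, evalFn_single, OneMemClass.coe_one, one_mul]

theorem blockPart_eq_zero {B : Set (IrrCharacter G)} {θ : IrrCharacter G} (hθ : θ ∉ B) :
    blockPart B (θ : G → ℂ) = 0 := by
  classical
  rw [blockPart_apply_eq]
  refine Finset.sum_eq_zero fun ξ hξ => ?_
  rw [Chars.classInner_of_ne fun h : θ = ξ => hθ (h ▸ B.toFinite.mem_toFinset.1 hξ), zero_smul]

/-- **Outside a block its columns vanish.** -/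
theorem IdemSys.dec_eq_zero_of_mem_cols (S : IdemSys M G) (hMp : IsPModular p M)
    {B : Set (IrrCharacter G)} (hB : IsPBlock M B) {c : Fin S.n} (hc : c ∈ S.cols B)
    {θ : IrrCharacter G} (hθ : θ ∉ B) : S.dec (θ : G → ℂ) c = 0 := by
  classical
  haveI := S.ne
  set L := topLift hB with hL
  have hLc : ∀ a : (localRing M)[G], Commute a L := by
    intro a
    induction a using MonoidAlgebra.induction_linear with
    | zero => exact Commute.zero_left _
    | add a a' ha ha' => exact ha.add_left ha'
    | single y t =>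
      rw [show single y t = t • single y (1 : localRing M) by simp]
      exact (ofixed_topLift hMp hB y (Subgroup.mem_top y)).smul_left t
  have hLi : IsIdempotentElem L := isIdempotentElem_topLift hMp hB
  have hE : IsIdempotentElem (L * S.e c) := hLi.mul_of_commute (hLc _).symm (S.e_idem c)
  have hval : ∀ χ : IrrCharacter G, trv (χ : G → ℂ) 1 (L * S.e c) =
      if χ ∈ B then S.dec (χ : G → ℂ) c else 0 := by
    intro χ
    rw [trv_single_one, evalFn_topLift_mul hMp (Chars.isClassFunction_coe χ) hB]
    split_ifs with h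
    · rw [blockPart_eq_self h, IdemSys.dec, trv_single_one]
    · rw [blockPart_eq_zero h]; simp [evalFn]
  have hzero : ∀ E : (localRing M)[G], IsIdempotentElem E → S.f (redG M G E) = 0 →
      ∀ χ : IrrCharacter G, trv (χ : G → ℂ) 1 E = 0 := by
    intro E hE hf χ
    have h0 : redG M G E = 0 :=
      eq_zero_of_isIdempotentElem_of_isNilpotent (hE.map _) (S.nil _ hf)
    rw [trv_eq_lval hMp (Chars.isClassFunction_coe χ) hE (commute_single_one E)
      IsIdempotentElem.zero (IsFixedBy.zero) (by rw [h0])]
    exact lval_zero hMp (Chars.isClassFunction_coe χ) 1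
  set z := S.f (redG M G L) c with hz
  have hzc : ∀ X, Commute X z := by
    intro X
    obtain ⟨w, hw⟩ := S.surj (Pi.single c X)
    obtain ⟨w₀, hw₀⟩ : ∃ w₀, redG M G w₀ = w :=
      ⟨MonoidAlgebra.ofCoeff (Finsupp.equivFunOnFinite.symm fun g =>
        (res_surjective (w.coeff g)).choose), MonoidAlgebra.ext (Finsupp.ext fun g => by
          rw [coeff_redG]; exact (res_surjective (w.coeff g)).choose_spec)⟩
    have h := congrArg (fun v => S.f (redG M G v) c) (hLc w₀).eq
    show X * z = z * X
    rw [hz]
    simpa [map_mul, hw₀, hw] using h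
  obtain ⟨t, ht⟩ := Matrix.mem_range_scalar_of_commute_single (M := z) fun i j _ => hzc _
  have hzz : z * z = z := by
    rw [hz, ← Pi.mul_apply, ← map_mul, ← map_mul, hLi.eq]
  have ht' : t = 0 ∨ t = 1 := by
    have h := congrFun (congrFun hzz 0) 0
    rw [← ht, ← map_mul, Matrix.scalar_apply, Matrix.scalar_apply, Matrix.diagonal_apply_eq,
      Matrix.diagonal_apply_eq] at h
    exact (IsIdempotentElem.iff_eq_zero_or_one.1 h)
  obtain ⟨χ, hχ, hχc⟩ := (Finset.mem_filter.1 hc).2
  have himg : S.f (redG M G (L * S.e c)) = Pi.single c (z * Matrix.single 0 0 1) := by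
    rw [map_mul, map_mul, S.e_image c]
    funext i
    rcases eq_or_ne i c with rfl | hi
    · simp [hz]
    · simp [hi]
  rcases ht' with rfl | rfl
  · exfalso
    have h := hzero _ hE (by rw [himg, ← ht, map_zero, zero_mul, Pi.single_zero]) χ
    rw [hval, if_pos hχ] at h
    exact hχc h
  · have hd : IsIdempotentElem (S.e c - L * S.e c) := by
      show (S.e c - L * S.e c) * (S.e c - L * S.e c) = S.e c - L * S.e c
      rw [sub_mul, mul_sub, mul_sub, hE.eq, (S.e_idem c).eq]
      rw [mul_assoc L, (S.e_idem c).eq, ← mul_assoc (S.e c) L, (hLc (S.e c)).eq, mul_assoc L,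
        (S.e_idem c).eq]
      abel
    have h := hzero _ hd (by
      rw [map_sub, map_sub, himg, ← ht, map_one, one_mul, S.e_image c, sub_self]) θ
    rw [trv_sub, hval, if_neg hθ, sub_zero] at h
    exact h

/-- **The regular rank is at most the number of columns.** -/
theorem IdemSys.blockRank_le (S : IdemSys M G) (hMp : IsPModular p M) {B : Set (IrrCharacter G)} :
    blockRank p B ≤ (S.cols B).card := by
  classical
  unfold blockRank
  refine le_trans (Submodule.finrank_mono (t := Submodule.span ℂ
    (↑((S.cols B).image fun c => pRegularPart p (S.phi p c)) : Set (G → ℂ))) ?_)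
    ((finrank_span_finset_le_card _).trans Finset.card_image_le)
  rw [Submodule.span_le]
  rintro _ ⟨χ, hχ, rfl⟩
  have h : pRegularPart p (χ : G → ℂ) =
      ∑ c ∈ S.cols B, S.dec (χ : G → ℂ) c • pRegularPart p (S.phi p c) := by
    funext g
    simp only [Finset.sum_apply, Pi.smul_apply, smul_eq_mul]
    by_cases hg : IsPRegular p g
    · simp only [pRegularPart, if_pos hg]
      rw [S.apply_eq_sum hMp (Chars.isCharacter_coe χ) hg]
      exact (Finset.sum_subset (Finset.subset_univ _) fun c _ hc => by
        rw [S.dec_eq_zero_of_notMem_cols hχ hc, zero_mul]).symm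
    · simp [pRegularPart, if_neg hg]
  show pRegularPart p (χ : G → ℂ) ∈ _
  rw [h]
  exact Submodule.sum_mem _ fun c hc => Submodule.smul_mem _ _ (Submodule.subset_span
    (Finset.mem_coe.2 (Finset.mem_image.2 ⟨c, hc, rfl⟩)))

/-- **The degree of a Brauer character of a block is made of the degrees in the block.** -/
theorem IdemSys.exists_int_block_comb (S : IdemSys M G) (hMp : IsPModular p M)
    {B : Set (IrrCharacter G)} (hB : IsPBlock M B) {c : Fin S.n} (hc : c ∈ S.cols B) :
    ∃ b : IrrCharacter G → ℤ,
      S.phi p c 1 = ∑ χ ∈ B.toFinite.toFinset, (b χ : ℂ) * (χ : G → ℂ) 1 := by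
  classical
  choose b hb using fun χ : IrrCharacter G =>
    exists_int_classInner (S.gen_phi hMp c) (Chars.isCharacter_coe χ)
  have hphi : ∀ g, S.phi p c g = ∑ χ : IrrCharacter G, (b χ : ℂ) * (χ : G → ℂ) g := by
    intro g
    rw [Chars.eq_sum_classInner_mul (S.isClassFunction_phi hMp c) g]
    simp only [hb]
  have hid : ∀ e, ∑ χ : IrrCharacter G, (b χ : ℂ) * S.dec (χ : G → ℂ) e =
      if c = e then 1 else 0 := by
    intro e
    refine sub_eq_zero.1 (congrFun (S.phi_indep hMp (p := p) (a := fun e =>
      (∑ χ : IrrCharacter G, (b χ : ℂ) * S.dec (χ : G → ℂ) e) - if c = e then 1 else 0) ?_) e)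
    intro g hg
    simp only [sub_mul, Finset.sum_sub_distrib, ite_mul, one_mul, zero_mul, Finset.sum_ite_eq,
      Finset.mem_univ, if_true, sub_eq_zero, Finset.sum_mul, mul_assoc]
    rw [Finset.sum_comm, hphi g]
    refine Finset.sum_congr rfl fun χ _ => ?_
    rw [← Finset.mul_sum, ← S.apply_eq_sum hMp (Chars.isCharacter_coe χ) hg]
  refine ⟨b, ?_⟩
  have h1 : IsPRegular p (1 : G) := by
    show ¬ p ∣ orderOf (1 : G)
    rw [orderOf_one]
    exact hp.out.not_dvd_one
  simp only [S.apply_eq_sum hMp (Chars.isCharacter_coe _) h1, Finset.mul_sum, ← mul_assoc]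
  rw [Finset.sum_comm]
  simp only [← Finset.sum_mul]
  rw [Finset.sum_eq_single c]
  · suffices h : ∑ χ ∈ B.toFinite.toFinset, (b χ : ℂ) * S.dec (χ : G → ℂ) c = 1 by
      rw [h, one_mul]
    rw [Finset.sum_subset (Finset.subset_univ _) fun χ _ hχ => by
      rw [S.dec_eq_zero_of_mem_cols hMp hB hc fun h => hχ (B.toFinite.mem_toFinset.2 h), mul_zero],
      hid, if_pos rfl]
  · intro e _ he
    by_cases hec : e ∈ S.cols B
    · rw [Finset.sum_subset (Finset.subset_univ _) fun χ _ hχ => by
        rw [S.dec_eq_zero_of_mem_cols hMp hB hec fun h => hχ (B.toFinite.mem_toFinset.2 h),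
          mul_zero], hid, if_neg (Ne.symm he), zero_mul]
    · rw [Finset.sum_eq_zero fun χ hχ => by
        rw [S.dec_eq_zero_of_notMem_cols (B.toFinite.mem_toFinset.1 hχ) hec, mul_zero], zero_mul]
  · exact fun h => absurd (Finset.mem_univ _) h

/-- **A projective degree is divisible by the `p`-part of the group order.** -/
theorem IdemSys.exists_proj_degree (S : IdemSys M G) (hMp : IsPModular p M) (c : Fin S.n) :
    ∃ N : ℕ, p ^ (Nat.card G).factorization p ∣ N ∧
      ∑ χ : IrrCharacter G, S.dec (χ : G → ℂ) c * (χ : G → ℂ) 1 = (N : ℂ) := by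
  classical
  choose m hm using fun χ : IrrCharacter G => exists_nat_dec S (Chars.isCharacter_coe χ) c
  refine ⟨∑ χ : IrrCharacter G, m χ * charDegree (χ : G → ℂ), ?_, ?_⟩
  swap
  · push_cast
    exact Finset.sum_congr rfl fun χ _ => by rw [hm, Chars.coe_charDegree]
  set N := ∑ χ : IrrCharacter G, m χ * charDegree (χ : G → ℂ) with hN
  have hreg : (N : ℂ) = (Nat.card G : ℂ) * ((S.e c).coeff 1 : ℂ) := by
    rw [hN]
    push_cast
    simp only [← hm, Chars.coe_charDegree, IdemSys.dec, trv_single_one, evalFn, Finset.sum_mul]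
    rw [Finset.sum_comm]
    have hterm : ∀ g : G, ∑ χ : IrrCharacter G,
        ((S.e c).coeff g : ℂ) * (χ : G → ℂ) g * (χ : G → ℂ) 1 =
          ((S.e c).coeff g : ℂ) * if g = 1 then (Nat.card G : ℂ) else 0 := by
      intro g
      have h := Chars.sum_irr_mul_conj g 1
      simp only [Chars.conj_map_one (Chars.isCharacter_coe _)] at h
      simp only [mul_assoc, ← Finset.mul_sum]
      rw [h]
      by_cases hg : g = 1
      · subst hg
        rw [if_pos (IsConj.refl _), if_pos rfl,
          show Subgroup.centralizer ({(1 : G)} : Set G) = ⊤ from eq_top_iff.2 fun x _ =>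
            Subgroup.mem_centralizer_iff.2 fun y hy => by
              rw [Set.mem_singleton_iff.1 hy, one_mul, mul_one], Subgroup.card_top]
      · rw [if_neg fun hc => hg ?_, if_neg hg]
        obtain ⟨z, hz⟩ := isConj_iff.1 hc
        rw [mul_inv_eq_one] at hz
        exact mul_left_cancel (hz.trans (mul_one z).symm)
    simp only [hterm]
    rw [Finset.sum_eq_single (1 : G) (fun g _ hg => by rw [if_neg hg, mul_zero]) (by simp),
      if_pos rfl, mul_comm]
  -- the cofactor of the common divisor is prime to `p`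
  set d := Nat.gcd N (Nat.card G) with hd
  have hd0 : d ≠ 0 := Nat.gcd_ne_zero_right Nat.card_pos.ne'
  obtain ⟨n', hn'⟩ : d ∣ N := Nat.gcd_dvd_left _ _
  obtain ⟨q, hq⟩ : d ∣ Nat.card G := Nat.gcd_dvd_right _ _
  have hcop : Nat.Coprime n' q := by
    have h := Nat.gcd_mul_left d n' q
    rw [← hn', ← hq, ← hd] at h
    exact (Nat.eq_of_mul_eq_mul_left (Nat.pos_of_ne_zero hd0) (by rwa [mul_one])).symm
  have hpq : ¬ p ∣ q := by
    intro hpq
    have he : (n' : localRing M) = (q : localRing M) * (S.e c).coeff 1 := by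
      refine Subtype.ext (mul_left_cancel₀ (Nat.cast_ne_zero.2 hd0 : (d : ℂ) ≠ 0) ?_)
      push_cast
      rw [← Nat.cast_mul, ← hn', hreg, hq]
      push_cast
      ring
    have h := congrArg (res M) he
    rw [map_mul, map_natCast, map_natCast, (CharP.cast_eq_zero_iff (kres M) p q).2 hpq,
      zero_mul, CharP.cast_eq_zero_iff (kres M) p] at h
    exact hp.out.not_dvd_one (hcop.gcd_eq_one ▸ Nat.dvd_gcd h hpq)
  refine dvd_trans ?_ (Nat.gcd_dvd_left N (Nat.card G))
  rw [← hd, hq, Nat.factorization_mul hd0 (fun h => hpq (by rw [h]; exact dvd_zero p)), Finsupp.add_apply,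
    Nat.factorization_eq_zero_of_not_dvd hpq, add_zero]
  exact Nat.ordProj_dvd d p

end CfsgLib.Blocks.Modular
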