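import Cfsg.Agent.Blocks.Star.AlgTraced
import Cfsg.Agent.Blocks.Star.Parts
import Cfsg.Agent.Chars.Basic.Orthogonality

/-!
# Primitive idempotents and decomposition numbers

A surjection of the residual group algebra onto a product of matrix algebras with nil kernel gives
one primitive idempotent per factor.  `dec S χ c` is the value of `χ` at a lift of the `c`-th one;
every idempotent is, for all class functions at once, a combination of these.
-/

set_option autoImplicit false
open scoped MonoidAlgebra
open MonoidAlgebra (single)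

namespace CfsgLib.Blocks.Modular

open Cfsg

universe u

/-- An additive function on idempotents with values in an additive group, invariant under
similarity. -/
structure IsAddTrace {A V : Type*} [Ring A] [AddCommGroup V] (m : A → V) : Prop where
  add : ∀ e e' : A, IsIdempotentElem e → IsIdempotentElem e' → e * e' = 0 → e' * e = 0 →
    m (e + e') = m e + m e'
  comm : ∀ x y : A, IsIdempotentElem (x * y) → IsIdempotentElem (y * x) → m (x * y) = m (y * x)

section Mats

variable {k : Type*} [Field k] {n : ℕ} {d : Fin n → ℕ} [∀ c, NeZero (d c)]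

theorem IsAddTrace.zero {A V : Type*} [Ring A] [AddCommGroup V] {m : A → V} (h : IsAddTrace m) :
    m 0 = 0 := by
  have := h.add 0 0 IsIdempotentElem.zero IsIdempotentElem.zero (mul_zero 0) (mul_zero 0)
  rw [add_zero] at this
  simpa using this

/-- An idempotent of a product of matrix algebras is made of first matrix units. -/
theorem exists_multiplicity {z : MatsOf k d} (hz : IsIdempotentElem z) :
    ∃ r : Fin n → ℕ, (∀ (V : Type) [AddCommGroup V] (m : MatsOf k d → V), IsAddTrace m →
        m z = ∑ c, r c • m (unitAt c)) ∧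
      (∀ c, (z c).trace = (r c : k)) ∧ ∀ c, r c = 0 → z c = 0 := by
  classical
  generalize hN : ∑ c, (z c).rank = N
  induction N using Nat.strong_induction_on generalizing z with
  | _ N ih =>
    by_cases h0 : z = 0
    · subst h0
      exact ⟨0, fun V _ m hm => by simp [hm.zero], fun c => by simp, fun c _ => rfl⟩
    obtain ⟨c, hc⟩ : ∃ c, z c ≠ 0 := by
      by_contra h; simp only [not_exists, not_not] at h; exact h0 (funext h)
    obtain ⟨e₁, x, y, he₁, hl, hr, he0, hxy, hyx⟩ :=
      exists_rankOne_le (0 : Fin (d c)) (congrFun hz c : z c * z c = z c) hc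
    have hzc : z c * z c = z c := congrFun hz c
    set E : MatsOf k d := Pi.single c e₁ with hE
    have hEE : E * E = E := by rw [hE, ← Pi.single_mul, he₁.eq]
    have hzE : z * E = E := by
      rw [hE]; funext e
      rcases eq_or_ne e c with rfl | he
      · simpa using hl
      · simp [he]
    have hEz : E * z = E := by
      rw [hE]; funext e
      rcases eq_or_ne e c with rfl | he
      · simpa using hr
      · simp [he]
    have hd : IsIdempotentElem (z - E) := by
      show (z - E) * (z - E) = z - E
      rw [sub_mul, mul_sub, mul_sub, hz.eq, hzE, hEz, hEE]; abel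
    have hother : ∀ e, e ≠ c → (z - E) e = z e := fun e he => by simp [hE, he]
    have hlt : ∑ e, ((z - E) e).rank < N := by
      rw [← hN]
      refine Finset.sum_lt_sum (fun e _ => ?_) ⟨c, Finset.mem_univ c, ?_⟩
      · rw [show (z - E) e = z e * (z - E) e by rw [← Pi.mul_apply, mul_sub, hz.eq, hzE]]
        exact Matrix.rank_mul_le_left _ _
      · show Module.finrank k (LinearMap.range ((z - E) c).mulVecLin) <
          Module.finrank k (LinearMap.range (z c).mulVecLin)
        have hsub : (z - E) c = z c - e₁ := by simp [hE]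
        rw [hsub]
        refine Submodule.finrank_lt_finrank_of_lt (lt_of_le_of_ne ?_ fun h => he0 ?_)
        · rintro _ ⟨v, rfl⟩
          refine ⟨(z c - e₁).mulVec v, ?_⟩
          simp only [Matrix.mulVecLin_apply, Matrix.mulVec_mulVec, mul_sub, hl, hzc]
        · have hfix : ∀ v, (z c - e₁).mulVec ((z c).mulVec v) = (z c).mulVec v := by
            intro v
            have : (z c).mulVec v ∈ LinearMap.range (z c - e₁).mulVecLin := by
              rw [h]; exact ⟨v, rfl⟩
            obtain ⟨u, hu⟩ := this
            rw [← hu, Matrix.mulVecLin_apply, Matrix.mulVec_mulVec]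
            congr 1
            rw [sub_mul, mul_sub, mul_sub, hzc, hl, hr, he₁.eq]
            abel
          have h1 : (z c - e₁) * z c = z c := by
            refine Matrix.ext_of_mulVec_single fun v => ?_
            rw [← Matrix.mulVec_mulVec]; exact hfix _
          rw [sub_mul, hr, hzc] at h1
          simpa using h1
    obtain ⟨r, hm, ht, hz0⟩ := ih _ hlt hd rfl
    refine ⟨fun e => r e + if e = c then 1 else 0, fun V _ m hmV => ?_, fun e => ?_, fun e he => ?_⟩
    · have hmE : m E = m (unitAt c) := by
        have h1 : Pi.single c x * Pi.single c y = E := by rw [← Pi.single_mul, hxy]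
        have h2 : Pi.single c y * Pi.single c x = unitAt (k := k) (d := d) c := by
          rw [← Pi.single_mul, hyx]; rfl
        rw [← h1, ← h2]
        exact hmV.comm _ _ (by rw [h1]; exact hEE) (by rw [h2]; exact isIdempotentElem_unitAt c)
      conv_lhs => rw [show z = E + (z - E) from (add_sub_cancel E z).symm]
      rw [hmV.add _ _ hEE hd (by rw [mul_sub, hEz, hEE, sub_self])
        (by rw [sub_mul, hzE, hEE, sub_self]), hmE, hm V m hmV]
      simp only [add_smul, Finset.sum_add_distrib, ite_smul, one_smul, zero_smul,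
        Finset.sum_ite_eq', Finset.mem_univ, if_true]
      rw [add_comm]
    · have h1 := ht e
      rcases eq_or_ne e c with rfl | he
      · have htr : (e₁ : Matrix _ _ k).trace = 1 := by
          rw [← hxy, Matrix.trace_mul_comm, hyx]; simp
        simp [hE, Matrix.trace_sub, htr, sub_eq_iff_eq_add] at h1
        simp [h1]
      · rw [hother e he] at h1
        simp [h1, he]
    · rcases eq_or_ne e c with rfl | hne
      · simp at he
      · rw [← hother e hne]
        exact hz0 e (by simpa [hne] using he)

end Mats

variable {M : Ideal AlgInt} [hM : M.IsMaximal] {G : Type u} [Group G] [Fintype G] {p : ℕ}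

/-- The factors of the residual group algebra with a lift of a primitive idempotent for each. -/
structure IdemSys (M : Ideal AlgInt) [M.IsMaximal] (G : Type u) [Group G] [Fintype G] where
  n : ℕ
  d : Fin n → ℕ
  ne : ∀ c, NeZero (d c)
  f : (kres M)[G] →ₐ[kres M] MatsOf (kres M) d
  surj : Function.Surjective f
  nil : ∀ x, f x = 0 → IsNilpotent x
  e : Fin n → (localRing M)[G]
  e_idem : ∀ c, IsIdempotentElem (e c)
  e_image : ∀ c, haveI := ne c; (f (redG M G (e c))) =
    Pi.single c (Matrix.single 0 0 (1 : kres M))

variable [hp : Fact p.Prime] [CharP (kres M) p]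

theorem isFixedBy_bot (a : (kres M)[G]) : IsFixedBy a (⊥ : Subgroup G) := by
  intro x hx g
  rw [Subgroup.mem_bot.1 hx]
  simp

omit hp [CharP (kres M) p] in
theorem exists_idemSys [IsAlgClosed (kres M)] : Nonempty (IdemSys M G) := by
  classical
  obtain ⟨n, d, f, hne, hsurj, hnil⟩ := exists_mats_hom (k := kres M) (A := (kres M)[G])
  have hlift : ∀ c, ∃ e : (localRing M)[G], IsIdempotentElem e ∧
      f (redG M G e) = unitAt c := by
    intro c
    obtain ⟨y, hy, hfy⟩ := exists_isIdempotentElem_eq_of_ker_isNilpotent f.toRingHom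
      (fun x hx => hnil x hx) (unitAt c) (hsurj _) (isIdempotentElem_unitAt c)
    obtain ⟨e, he, -, hee⟩ := exists_idem_lift hy (isFixedBy_bot y)
    exact ⟨e, he, by rw [hee]; exact hfy⟩
  choose e he hee using hlift
  exact ⟨⟨n, d, hne, f, hsurj, hnil, e, he, fun c => hee c⟩⟩

/-- The decomposition number of `χ` at the `c`-th primitive idempotent. -/
noncomputable def IdemSys.dec (S : IdemSys M G) (φ : G → ℂ) (c : Fin S.n) : ℂ := trv φ 1 (S.e c)

omit hp [CharP (kres M) p] in
theorem commute_single_one (a : (localRing M)[G]) : Commute (single (1 : G) (1 : localRing M)) a := by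
  rw [← MonoidAlgebra.one_def]
  exact Commute.one_left a

omit hp [CharP (kres M) p] [Fintype G] in
theorem trv_single_one [Fintype G] (φ : G → ℂ) (a : (localRing M)[G]) : trv φ 1 a = evalFn φ a := by
  rw [trv, ← MonoidAlgebra.one_def, one_mul]

theorem isFixedBy_zpowers_one (a : (kres M)[G]) : IsFixedBy a (Subgroup.zpowers (1 : G)) := by
  rw [Subgroup.zpowers_one_eq_bot]
  exact isFixedBy_bot a

/-- **An idempotent is, at all class functions at once, made of the primitive ones.** -/
theorem IdemSys.exists_trv (S : IdemSys M G) (hMp : IsPModular p M) {E : (localRing M)[G]}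
    (hE : IsIdempotentElem E) :
    ∃ r : Fin S.n → ℕ, (∀ φ : G → ℂ, IsClassFunction G φ →
        trv φ 1 E = ∑ c, (r c : ℂ) * S.dec φ c) ∧
      (∀ c, (S.f (redG M G E) c).trace = (r c : kres M)) ∧
      ∀ c, r c = 0 → S.f (redG M G E) c = 0 := by
  classical
  haveI := S.ne
  have hred : IsIdempotentElem (redG M G E) := hE.map _
  obtain ⟨r, hr, ht, h0⟩ := exists_multiplicity (hred.map S.f)
  refine ⟨r, fun φ hφ => ?_, ht, h0⟩
  set m₀ : (kres M)[G] → ℂ := fun y => lval φ 1 y with hm₀
  have hm : IsIdemTrace m₀ := ⟨fun y y' hy hy' h1 h2 => lval_add hMp hφ hy hy'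
      (isFixedBy_zpowers_one y) (isFixedBy_zpowers_one y') h1 h2,
    fun x y hxy hyx => lval_similar hMp hφ hxy hyx (isFixedBy_zpowers_one x)
      (isFixedBy_zpowers_one y)⟩
  obtain ⟨m', hm', hfac⟩ := hm.exists_factor S.f.toRingHom S.surj S.nil
  have hm'' : IsAddTrace m' := ⟨hm'.add, hm'.comm⟩
  have hval : ∀ e : (localRing M)[G], IsIdempotentElem e → trv φ 1 e = m' (S.f (redG M G e)) := by
    intro e he
    have he' : IsIdempotentElem (redG M G e) := he.map _
    rw [trv_eq_lval hMp hφ he (commute_single_one e) he' (isFixedBy_zpowers_one _) rfl]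
    exact hfac _ he'
  rw [hval E hE, hr ℂ m' hm'']
  refine Finset.sum_congr rfl fun c _ => ?_
  rw [nsmul_eq_mul, IdemSys.dec, hval _ (S.e_idem c), S.e_image c]
  rfl

/-- A decomposition number is a natural number. -/
theorem exists_nat_dec (S : IdemSys M G) {χ : G → ℂ} (hχ : IsCharacter G χ) (c : Fin S.n) :
    ∃ m : ℕ, S.dec χ c = (m : ℂ) := by
  obtain ⟨n, ρ, rfl⟩ := hχ
  set T : Module.End ℂ (Fin n → ℂ) := ρ.asAlgebraHom (ZStar.toC M G (S.e c)) with hT
  have hTT : T * T = T := by rw [hT, ← map_mul, ← map_mul, (S.e_idem c).eq]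
  refine ⟨Module.finrank ℂ (LinearMap.range T), ?_⟩
  have hproj : LinearMap.IsProj (LinearMap.range T) T :=
    ⟨fun x => ⟨x, rfl⟩, by
      rintro _ ⟨y, rfl⟩
      exact congrArg (fun L : Module.End ℂ (Fin n → ℂ) => L y) hTT⟩
  rw [← hproj.trace, IdemSys.dec, trv_single_one, evalFn]
  rw [hT, Representation.asAlgebraHom, MonoidAlgebra.lift_apply, Finsupp.sum_fintype _ _
    (fun g => by rw [zero_smul]), map_sum]
  refine Finset.sum_congr rfl fun g _ => ?_
  rw [map_smul, smul_eq_mul]
  rfl

end CfsgLib.Blocks.Modular
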