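import Cfsg.Agent.Blocks.Modular.Idem
import Cfsg.Agent.Blocks.Cyclic.Rank
import Cfsg.Agent.Chars.Basic.Columns

/-!
# Separating idempotents of a group of order prime to `p`

For such a group every irreducible character takes the value one at some idempotent of the local
group algebra where all other irreducible characters vanish.  Pushed into an overgroup, this gives
idempotents counting the constituents of a restriction.
-/

set_option autoImplicit false
open scoped MonoidAlgebra
open MonoidAlgebra (single)

namespace CfsgLib.Blocks.Modular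

open Cfsg
open scoped ComplexConjugate

universe u v

/-- The number of solutions of `z * g * z⁻¹ = h`. -/
theorem sum_ite_conj {G : Type u} [Group G] [Fintype G] [DecidableEq G] (g h : G) :
    (∑ z : G, if z * g * z⁻¹ = h then (1 : ℂ) else 0) =
      open scoped Classical in
      if IsConj g h then (Nat.card (Subgroup.centralizer ({g} : Set G)) : ℂ) else 0 := by
  classical
  split_ifs with hgh
  · obtain ⟨a, rfl⟩ := isConj_iff.1 hgh
    rw [Finset.sum_boole, Nat.card_eq_fintype_card, ← Finset.card_univ]
    norm_cast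
    refine Finset.card_bij' (fun z hz => ⟨a⁻¹ * z, ?_⟩) (fun w _ => a * (w : G))
      (fun _ _ => Finset.mem_univ _) (fun w _ => ?_) (fun z _ => by group)
      (fun w _ => Subtype.ext (by group))
    · simp only [Finset.mem_filter, Finset.mem_univ, true_and] at hz
      rw [Subgroup.mem_centralizer_iff]
      intro y hy
      rw [Set.mem_singleton_iff.1 hy]
      calc g * (a⁻¹ * z) = a⁻¹ * (a * g * a⁻¹) * z := by group
        _ = a⁻¹ * z * g := by rw [← hz]; group
    · simp only [Finset.mem_filter, Finset.mem_univ, true_and]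
      have hw : g * (w : G) = (w : G) * g := Subgroup.mem_centralizer_iff.1 w.2 g rfl
      calc a * (w : G) * g * (a * (w : G))⁻¹ = a * ((w : G) * g) * (w : G)⁻¹ * a⁻¹ := by group
        _ = a * (g * (w : G)) * (w : G)⁻¹ * a⁻¹ := by rw [hw]
        _ = a * g * a⁻¹ := by group
  · exact Finset.sum_eq_zero fun z _ => if_neg fun hz => hgh (isConj_iff.2 ⟨z, hz⟩)

variable {M : Ideal AlgInt} [hM : M.IsMaximal] {K : Type u} [Group K] [Fintype K] {p : ℕ}
  [hp : Fact p.Prime] [CharP (kres M) p]

omit hM in
/-- Compression by an element, evaluated with the characters. -/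
theorem sum_coeff_compress [M.IsMaximal] (a : (localRing M)[K]) :
    ∑ z : K, ((a * single z 1 * a).coeff z : ℂ) = ∑ ψ : IrrCharacter K, evalFn (ψ : K → ℂ) a ^ 2 := by
  classical
  have hz : ∀ z : K, ((a * single z 1 * a).coeff z : ℂ) =
      ∑ g : K, ∑ h : K, (a.coeff g : ℂ) * (a.coeff h : ℂ) *
        if z⁻¹ * g * z⁻¹⁻¹ = h⁻¹ then 1 else 0 := by
    intro z
    have ha : a = ∑ g : K, single g (a.coeff g) := by
      refine MonoidAlgebra.ext (Finsupp.ext fun x => ?_)
      simp [MonoidAlgebra.coeff_sum, Finsupp.single_apply]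
    conv_lhs => rw [ha]
    simp only [Finset.sum_mul, Finset.mul_sum, MonoidAlgebra.single_mul_single, mul_one,
      MonoidAlgebra.coeff_sum, Finsupp.finsetSum_apply, MonoidAlgebra.coeff_single,
      Finsupp.single_apply]
    rw [Finset.sum_comm]
    push_cast
    refine Finset.sum_congr rfl fun g _ => Finset.sum_congr rfl fun h _ => ?_
    have : g * z * h = z ↔ z⁻¹ * g * z⁻¹⁻¹ = h⁻¹ := by
      rw [inv_inv, eq_inv_iff_mul_eq_one]
      constructor
      · intro e; calc z⁻¹ * g * z * h = z⁻¹ * (g * z * h) := by group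
          _ = 1 := by rw [e, inv_mul_cancel]
      · intro e; calc g * z * h = z * (z⁻¹ * g * z * h) := by group
          _ = z := by rw [e, mul_one]
    by_cases he : g * z * h = z
    · rw [if_pos he, if_pos (this.1 he), mul_one]
      push_cast
      ring
    · rw [if_neg he, if_neg fun e => he (this.2 e), mul_zero]
      rfl
  simp only [hz]
  rw [Finset.sum_comm, Finset.sum_congr rfl fun g _ => Finset.sum_comm]
  simp only [sq, evalFn, Finset.sum_mul_sum]
  symm
  rw [Finset.sum_comm]
  refine Finset.sum_congr rfl fun g _ => ?_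
  rw [Finset.sum_comm]
  refine Finset.sum_congr rfl fun h _ => ?_
  rw [← Finset.mul_sum, Fintype.sum_equiv (Equiv.inv K)
    (fun z => if z⁻¹ * g * z⁻¹⁻¹ = h⁻¹ then (1 : ℂ) else 0)
    (fun z => if z * g * z⁻¹ = h⁻¹ then (1 : ℂ) else 0) (fun z => by simp), sum_ite_conj]
  refine Eq.trans ?_ (congrArg _ ((Chars.sum_irr_mul_conj g h⁻¹).trans (by congr)))
  rw [Finset.mul_sum]
  refine Finset.sum_congr rfl fun ψ _ => ?_
  rw [← Chars.map_inv_eq_conj (Chars.isCharacter_coe ψ), inv_inv]
  ring

omit [CharP (kres M) p] hp in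
/-- The residual group algebra of a group of order prime to `p` has no nil ideal. -/
theorem IdemSys.injective (S : IdemSys M K) (hK : (Nat.card K : kres M) ≠ 0) :
    Function.Injective S.f := by
  classical
  rw [injective_iff_map_eq_zero]
  intro x hx
  haveI : Module.Finite (kres M) (kres M)[K] :=
    Module.Finite.of_basis (MonoidAlgebra.basis K (kres M))
  refine MonoidAlgebra.ext (Finsupp.ext fun g => ?_)
  set w := x * single g⁻¹ (1 : kres M) with hw
  have hwn : IsNilpotent (LinearMap.mulLeft (kres M) w) :=
    (S.nil w (by rw [hw, map_mul, hx, zero_mul])).map (Algebra.lmul (kres M) (kres M)[K])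
  have htr := IsNilpotent.eq_zero (LinearMap.isNilpotent_trace_of_isNilpotent hwn)
  rw [LinearMap.trace_eq_matrix_trace (kres M) (MonoidAlgebra.basis K (kres M)), Matrix.trace,
    Finset.sum_congr rfl (g := fun _ => x.coeff g) fun z _ => ?_, Finset.sum_const,
    Finset.card_univ, nsmul_eq_mul, ← Nat.card_eq_fintype_card] at htr
  · exact (mul_eq_zero.1 htr).resolve_left hK
  · rw [Matrix.diag_apply, LinearMap.toMatrix_apply]
    simp [MonoidAlgebra.basis, hw, mul_assoc, MonoidAlgebra.single_mul_single,
      MonoidAlgebra.coeff_mul_single_apply]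

/-- **At a primitive idempotent exactly one character is alive, with value one.** -/
theorem IdemSys.sum_dec_sq (S : IdemSys M K) (hK : (Nat.card K : kres M) ≠ 0) (c : Fin S.n) :
    ∑ ψ : IrrCharacter K, S.dec (ψ : K → ℂ) c ^ 2 = 1 := by
  classical
  haveI := S.ne
  set e := S.e c with he
  simp only [IdemSys.dec, trv_single_one]
  rw [← sum_coeff_compress e]
  let T : (localRing M)[K] →ₗ[localRing M] (localRing M)[K] :=
    LinearMap.mulLeft (localRing M) e ∘ₗ LinearMap.mulRight (localRing M) e
  let P : Matrix K K (localRing M) :=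
    LinearMap.toMatrix (MonoidAlgebra.basis K (localRing M))
      (MonoidAlgebra.basis K (localRing M)) T
  have hTT : T * T = T := by
    refine LinearMap.ext fun z => ?_
    show e * (e * (z * e) * e) = e * (z * e)
    simp only [mul_assoc, (S.e_idem c).eq]
    rw [← mul_assoc e e, (S.e_idem c).eq]
  have hPP : P * P = P := by
    show LinearMap.toMatrix _ _ T * LinearMap.toMatrix _ _ T = _
    rw [← LinearMap.toMatrix_mul, hTT]
  have hPent : ∀ x z : K, P x z = (e * single z 1 * e).coeff x := by
    intro x z
    simp [P, T, LinearMap.toMatrix_apply, MonoidAlgebra.basis, mul_assoc]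
  have hfin := Cyclic.finrank_range_reduction (K := ℂ) (k := kres M) (f := (localRing M).subtype)
    Subtype.coe_injective (res M) hPP
  have htr : (P.map (localRing M).subtype).trace = ∑ z : K, ((e * single z 1 * e).coeff z : ℂ) := by
    simp [Matrix.trace, hPent]
  rw [← htr, ← hfin, Nat.cast_eq_one]
  set ebar := redG M K e with hebar
  let L : (kres M)[K] ≃ₗ[kres M] (K → kres M) :=
    (MonoidAlgebra.coeffLinearEquiv (kres M)).trans
      (Finsupp.linearEquivFunOnFinite (kres M) (kres M) K)
  have hL : ∀ a x, L a x = a.coeff x := fun a x => rfl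
  have hP' : ∀ z : K, (fun x => (P.map (res M)) x z) = L (ebar * single z 1 * ebar) := by
    intro z
    funext x
    rw [Matrix.map_apply, hPent, hL, ← coeff_redG, map_mul, map_mul, redG_single, map_one]
  have hspan : ∀ z : K, ∃ t : kres M, ebar * single z 1 * ebar = t • ebar := by
    intro z
    refine ⟨(S.f (single z 1) c) 0 0, S.injective hK ?_⟩
    rw [map_mul, map_mul, map_smul, hebar, he, S.e_image c]
    funext i
    rcases eq_or_ne i c with rfl | hi
    · simp [Pi.single_eq_same, Matrix.single_mul_mul_single, Matrix.smul_single]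
    · simp [hi]
  have hrange : LinearMap.range (Matrix.toLin' (P.map (res M))) =
      Submodule.span (kres M) {L ebar} := by
    rw [Matrix.range_toLin']
    refine le_antisymm (Submodule.span_le.2 ?_) (Submodule.span_le.2 ?_)
    · rintro _ ⟨z, rfl⟩
      obtain ⟨t, ht⟩ := hspan z
      show (fun x => (P.map (res M)) x z) ∈ _
      rw [hP', ht, map_smul]
      exact Submodule.smul_mem _ _ (Submodule.mem_span_singleton_self _)
    · rw [Set.singleton_subset_iff]
      show L ebar ∈ _
      have h1 : ebar = ebar * single 1 1 * ebar := by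
        rw [← MonoidAlgebra.one_def, mul_one]
        exact ((S.e_idem c).map (redG M K)).eq.symm
      rw [h1, ← hP']
      exact Submodule.subset_span ⟨1, rfl⟩
  rw [hrange, finrank_span_singleton]
  intro h0
  have h1 := S.e_image c
  rw [show redG M K (S.e c) = 0 from L.injective (h0.trans (map_zero L).symm), map_zero] at h1
  have := congrArg (fun w : MatsOf (kres M) S.d => (w c) 0 0) h1
  simp at this

/-- **Separating idempotents.** -/
theorem exists_separating (hMp : IsPModular p M) (hK : ¬ p ∣ Nat.card K) (ψ : IrrCharacter K) :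
    ∃ E : (localRing M)[K], IsIdempotentElem E ∧
      ∀ θ : IrrCharacter K, evalFn (θ : K → ℂ) E = open scoped Classical in
        if θ = ψ then 1 else 0 := by
  classical
  have hKk : (Nat.card K : kres M) ≠ 0 := by rwa [Ne, CharP.cast_eq_zero_iff (kres M) p]
  obtain ⟨S⟩ := exists_idemSys (M := M) (G := K)
  obtain ⟨r, hr, -, -⟩ := S.exists_trv hMp (E := 1) IsIdempotentElem.one
  have h1 := hr _ (Chars.isClassFunction_coe ψ)
  rw [trv_single_one, MonoidAlgebra.one_def, evalFn_single] at h1
  obtain ⟨c, hc⟩ : ∃ c, S.dec (ψ : K → ℂ) c ≠ 0 := by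
    by_contra h
    simp only [not_exists, not_not] at h
    rw [Finset.sum_eq_zero fun c _ => by rw [h c, mul_zero], OneMemClass.coe_one, one_mul] at h1
    exact Chars.map_one_ne_zero ψ h1
  refine ⟨S.e c, S.e_idem c, fun θ => ?_⟩
  rw [← trv_single_one]
  show S.dec (θ : K → ℂ) c = _
  choose m hm using fun φ : IrrCharacter K => exists_nat_dec S (Chars.isCharacter_coe φ) c
  have hsq := S.sum_dec_sq hKk c
  simp only [hm] at hsq hc ⊢
  norm_cast at hsq hc
  have hψ : 1 ≤ m ψ ^ 2 := Nat.one_le_pow _ _ (Nat.pos_of_ne_zero hc)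
  split_ifs with h
  · subst h
    have : m θ ^ 2 ≤ 1 := hsq ▸ Finset.single_le_sum (f := fun φ => m φ ^ 2)
      (fun _ _ => Nat.zero_le _) (Finset.mem_univ θ)
    rw [show m θ = 1 from le_antisymm ((Nat.le_self_pow two_ne_zero _).trans this)
      (Nat.pos_of_ne_zero hc), Nat.cast_one]
  · have : m ψ ^ 2 + m θ ^ 2 ≤ 1 := by
      rw [← hsq, ← Finset.sum_pair (f := fun φ => m φ ^ 2) (Ne.symm h)]
      exact Finset.sum_le_sum_of_subset (Finset.subset_univ _)
    have h0 : m θ ^ 2 = 0 := by omega
    rw [pow_eq_zero_iff (by norm_num : 2 ≠ 0)] at h0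
    rw [h0, Nat.cast_zero]

section Overgroup

variable {G : Type v} [Group G] [Fintype G]

/-- The map of local group algebras along a homomorphism. -/
noncomputable def liftO (f : K →* G) : (localRing M)[K] →+* (localRing M)[G] :=
  MonoidAlgebra.mapDomainRingHom (localRing M) f

omit [CharP (kres M) p] hp in
theorem liftO_single (f : K →* G) (x : K) (c : localRing M) :
    liftO (M := M) f (single x c) = single (f x) c :=
  MonoidAlgebra.mapDomain_single

omit [CharP (kres M) p] hp in
theorem evalFn_liftO (f : K →* G) (φ : G → ℂ) (a : (localRing M)[K]) :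
    evalFn φ (liftO (M := M) f a) = evalFn (fun x => φ (f x)) a := by
  induction a using MonoidAlgebra.induction_linear with
  | zero => rw [map_zero, evalFn_zero, evalFn_zero]
  | add a a' ha ha' => rw [map_add, evalFn_add, evalFn_add, ha, ha']
  | single x c => rw [liftO_single, evalFn_single, evalFn_single]

/-- An idempotent counting a constituent of the restrictions. -/
theorem exists_idem_count (hMp : IsPModular p M) (hK : ¬ p ∣ Nat.card K) (f : K →* G)
    (ψ : IrrCharacter K) :
    ∃ E : (localRing M)[G], IsIdempotentElem E ∧ ∀ φ : G → ℂ, IsClassFunction G φ →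
      trv φ 1 E = classInner (fun x => φ (f x)) (ψ : K → ℂ) := by
  classical
  obtain ⟨E, hE, hval⟩ := exists_separating hMp hK ψ
  refine ⟨liftO (M := M) f E, hE.map _, fun φ hφ => ?_⟩
  have hres : IsClassFunction K (fun x => φ (f x)) := fun a b => by
    show φ (f (b * a * b⁻¹)) = φ (f a)
    rw [map_mul, map_mul, map_inv]
    exact hφ (f a) (f b)
  rw [trv_single_one, evalFn_liftO]
  set θ := fun x => φ (f x) with hθ
  calc evalFn θ E = ∑ g, (E.coeff g : ℂ) * ∑ χ : IrrCharacter K,
        classInner θ (χ : K → ℂ) * (χ : K → ℂ) g :=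
        Finset.sum_congr rfl fun g _ => by rw [← Chars.eq_sum_classInner_mul hres g]
    _ = ∑ χ : IrrCharacter K, classInner θ (χ : K → ℂ) * evalFn (χ : K → ℂ) E := by
        simp only [evalFn, Finset.mul_sum]
        rw [Finset.sum_comm]
        exact Finset.sum_congr rfl fun χ _ => Finset.sum_congr rfl fun g _ => by ring
    _ = classInner θ (ψ : K → ℂ) := by
        rw [Finset.sum_eq_single ψ (fun χ _ hne => by rw [hval, if_neg hne, mul_zero])
          (fun h => absurd (Finset.mem_univ _) h), hval, if_pos rfl, mul_one]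

end Overgroup

end CfsgLib.Blocks.Modular
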